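import Mathlib.LinearAlgebra.Quotient.Basic
import Mathlib.RingTheory.IsTensorProduct

/-!
# Algebra behind the exactness of the conormal sequence
-/

set_option autoImplicit false
universe u

namespace Groth.Agent.Dual.H366.ConAlg

/-- If `W` has the universal property of derivations, then `C → F → W` is exact. -/
theorem exact_of_derivation {R B F W C : Type u} [CommRing R] [CommRing B] (σ : R →+* B)
    (hσ : Function.Surjective σ) [AddCommGroup F] [Module B F] [AddCommGroup W] [Module B W]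
    [AddCommGroup C] [Module B C] (δ : C →ₗ[B] F) (p : F →ₗ[B] W) (T : Set R) (D : R →+ F)
    (hD : ∀ a b, D (a * b) = σ a • D b + σ b • D a) (hT : ∀ a ∈ T, D a = 0)
    (hker : ∀ a, σ a = 0 → ∃ c, δ c = D a) (hspan : Submodule.span B (Set.range D) = ⊤)
    (d : B → W) (hpd : ∀ a, p (D a) = d (σ a))
    (huniv : ∀ (N : Type u) [AddCommGroup N] [Module B N] (D₀ : B →+ N),
      (∀ a b, D₀ (a * b) = a • D₀ b + b • D₀ a) → (∀ a ∈ T, D₀ (σ a) = 0) →
      ∃ L : W →ₗ[B] N, ∀ b, L (d b) = D₀ b) (x : F) (hx : p x = 0) : ∃ c, δ c = x := by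
  let q : F →ₗ[B] F ⧸ LinearMap.range δ := (LinearMap.range δ).mkQ
  have hq : ∀ y, q (δ y) = 0 := fun y => (Submodule.Quotient.mk_eq_zero _).mpr ⟨y, rfl⟩
  have hker' : ∀ a, σ a = 0 → q (D a) = 0 := fun a ha => by
    obtain ⟨y, hy⟩ := hker a ha
    rw [← hy]
    exact hq _
  choose ρ hρ using hσ
  have hσ' : ∀ a, q (D (ρ (σ a))) = q (D a) := fun a => by
    rw [← sub_eq_zero, ← map_sub, ← map_sub]
    exact hker' _ (by rw [map_sub, hρ, sub_self])
  let D₀ : B →+ F ⧸ LinearMap.range δ :=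
    { toFun := fun b => q (D (ρ b))
      map_zero' := by
        have := hσ' 0
        rw [map_zero, map_zero] at this
        rw [this, map_zero]
      map_add' := fun b b' => by
        obtain ⟨a, rfl⟩ : ∃ a, σ a = b := ⟨ρ b, hρ b⟩
        obtain ⟨a', rfl⟩ : ∃ a, σ a = b' := ⟨ρ b', hρ b'⟩
        rw [← map_add, hσ', hσ', hσ', map_add, map_add] }
  have hD₀ : ∀ a, D₀ (σ a) = q (D a) := hσ'
  obtain ⟨L, hL⟩ := huniv _ D₀ (by
      intro b b'
      obtain ⟨a, rfl⟩ : ∃ a, σ a = b := ⟨ρ b, hρ b⟩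
      obtain ⟨a', rfl⟩ : ∃ a, σ a = b' := ⟨ρ b', hρ b'⟩
      rw [← map_mul, hD₀, hD₀, hD₀, hD, map_add, map_smul, map_smul])
    (by
      intro a ha
      rw [hD₀, hT a ha, map_zero])
  have key : L ∘ₗ p = q := by
    refine LinearMap.ext_on_range (v := D) hspan fun a => ?_
    rw [LinearMap.comp_apply, hpd, hL, hD₀]
  have h1 : q x = 0 := by
    rw [← key, LinearMap.comp_apply, hx, map_zero]
  exact (Submodule.Quotient.mk_eq_zero _).mp h1

end Groth.Agent.Dual.H366.ConAlg
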