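import Groth.Agent.Dual.H366.Conormal
import Groth.Agent.Dual.H366.ConAlg

/-!
# Wrappers: sections of pullbacks and differentials with values in `Sec`
-/

set_option autoImplicit false
universe u
open CategoryTheory CategoryTheory.Limits AlgebraicGeometry Opposite TopologicalSpace

namespace Groth.Agent.Dual.H366.ConSec

open Groth.Agent.PerfA.IdealModule Groth.Agent.VarietyB Groth.Agent.Sga67.Sec
open Groth.Agent.CurvesB.OmegaDer (d d_mul d_res der der_apply algX modO isScalarTower bijective_lift)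
open Conormal

section SecS

variable {X W : Scheme.{u}} (s : X ⟶ W) (M : W.Modules)

/-- Pulled back sections. -/
noncomputable def secS (V : W.Opens) : Sec M V →+ Sec ((Scheme.Modules.pullback s).obj M) (s ⁻¹ᵁ V) :=
  PullSec.sec s M (le_refl (s ⁻¹ᵁ V))

theorem secS_smul (V : W.Opens) (a : Γ(W, V)) (x : Sec M V) :
    secS s M V (a • x) = s.app V a • secS s M V x := sec_smul' s V a x

theorem secS_res {V V' : W.Opens} (h : V' ≤ V) (x : Sec M V) :
    secS s M V' (res M h x) = res _ (s.preimage_mono h) (secS s M V x) :=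
  (PullSec.sec_res s M (le_refl (s ⁻¹ᵁ V)) (le_refl (s ⁻¹ᵁ V')) h (s.preimage_mono h) x).symm

/-- The `Γ(W, V)`-algebra `Γ(X, s⁻¹ V)`. -/
noncomputable abbrev algS (V : W.Opens) : Algebra Γ(W, V) Γ(X, s ⁻¹ᵁ V) :=
  (s.appLE V (s ⁻¹ᵁ V) le_rfl).hom.toAlgebra

/-- The `Γ(W, V)`-module structure on sections over `s⁻¹ V`. -/
noncomputable abbrev modS (N : X.Modules) (V : W.Opens) : Module Γ(W, V) (Sec N (s ⁻¹ᵁ V)) :=
  Module.compHom _ (s.appLE V (s ⁻¹ᵁ V) le_rfl).hom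

/-- linear version of `secS`. -/
noncomputable def secSₗ (V : W.Opens) :
    letI := modS s ((Scheme.Modules.pullback s).obj M) V
    Sec M V →ₗ[Γ(W, V)] Sec ((Scheme.Modules.pullback s).obj M) (s ⁻¹ᵁ V) :=
  letI := modS s ((Scheme.Modules.pullback s).obj M) V
  { toFun := secS s M V
    map_add' := map_add _
    map_smul' := PullSec.sec_smul s M (le_refl (s ⁻¹ᵁ V)) }

theorem tower (N : X.Modules) (V : W.Opens) :
    letI := algS s V
    letI := modS s N V
    IsScalarTower Γ(W, V) Γ(X, s ⁻¹ᵁ V) (Sec N (s ⁻¹ᵁ V)) := by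
  let := algS s V
  let := modS s N V
  exact ⟨fun a b c => by rw [Algebra.smul_def, mul_smul]; rfl⟩

theorem isBaseChange_secS (hM : Coh.IsQCoh M) {V : W.Opens} (hV : IsAffineOpen V)
    (hU : IsAffineOpen (s ⁻¹ᵁ V)) :
    letI := algS s V
    letI := modS s ((Scheme.Modules.pullback s).obj M) V
    haveI := tower s ((Scheme.Modules.pullback s).obj M) V
    IsBaseChange Γ(X, s ⁻¹ᵁ V) (secSₗ s M V) := by
  exact PullSec.isBaseChange_secₗ s M (le_refl (s ⁻¹ᵁ V)) hM hV hU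

/-- Generators pull back to generators. -/
theorem span_secS (hM : Coh.IsQCoh M) {V : W.Opens} (hV : IsAffineOpen V)
    (hU : IsAffineOpen (s ⁻¹ᵁ V)) {ι : Sort*} (x : ι → Sec M V) (hx : Submodule.span Γ(W, V) (Set.range x) = ⊤) :
    Submodule.span Γ(X, s ⁻¹ᵁ V) (Set.range (fun i => secS s M V (x i))) = ⊤ := by
  let := algS s V
  let := modS s ((Scheme.Modules.pullback s).obj M) V
  have := tower s ((Scheme.Modules.pullback s).obj M) V
  have h := isBaseChange_secS s M hM hV hU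
  rw [eq_top_iff]
  rintro y -
  refine h.inductionOn y (motive := fun y => y ∈ Submodule.span Γ(X, s ⁻¹ᵁ V)
    (Set.range (fun i => secS s M V (x i)))) (Submodule.zero_mem _) ?_
    (fun a b hb => Submodule.smul_mem _ a hb) (fun a b ha hb => Submodule.add_mem _ ha hb)
  intro z
  have hz : z ∈ Submodule.span Γ(W, V) (Set.range x) := by rw [hx]; trivial
  induction hz using Submodule.span_induction with
  | mem z hz =>
    obtain ⟨i, rfl⟩ := hz
    exact Submodule.subset_span ⟨i, rfl⟩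
  | zero => rw [map_zero]; exact Submodule.zero_mem _
  | add a b _ _ ha hb => rw [map_add]; exact Submodule.add_mem _ ha hb
  | smul a b _ hb =>
    rw [map_smul, ← algebraMap_smul Γ(X, s ⁻¹ᵁ V)]
    exact Submodule.smul_mem _ _ hb

end SecS

theorem isQCoh_omega {X Y : Scheme.{u}} (f : X ⟶ Y) : Coh.IsQCoh (Omega.sheaf f) :=
  PullSec.isQCoh_pullback _ _ (PerfA.IdealModule.isQCoh_idealMod _)

theorem isQCoh_conormal {X Y : Scheme.{u}} (f : X ⟶ Y) : Coh.IsQCoh (Omega.conormal f) :=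
  PullSec.isQCoh_pullback _ _ (PerfA.IdealModule.isQCoh_idealMod _)

section DS

variable {W Y : Scheme.{u}} (w : W ⟶ Y) [QuasiCompact (pullback.diagonal w)]

/-- The universal derivation, with values in `Sec`. -/
noncomputable def dS (V : W.Opens) : Γ(W, V) →+ Sec (Omega.sheaf w) V := d w V

theorem dS_mul (V : W.Opens) (a b : Γ(W, V)) : dS w V (a * b) = a • dS w V b + b • dS w V a := d_mul w V a b

theorem dS_res {V V' : W.Opens} (h : V' ≤ V) (a : Γ(W, V)) :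
    res _ h (dS w V a) = dS w V' (resO W h a) := d_res w h a

variable {w}

theorem dS_appLE (c : Ch w) (a : Γ(Y, c.T)) : dS w c.V (w.appLE c.T c.V c.e a) = 0 := d_appLE c a

theorem span_dS (c : Ch w) : Submodule.span Γ(W, c.V) (Set.range (dS w c.V)) = ⊤ := span_d c

theorem exists_liftS (c : Ch w) {N : Type u} [AddCommGroup N] [Module Γ(W, c.V) N] (D₀ : Γ(W, c.V) →+ N)
    (hmul : ∀ a b, D₀ (a * b) = a • D₀ b + b • D₀ a)
    (hA : ∀ a : Γ(Y, c.T), D₀ (w.appLE c.T c.V c.e a) = 0) :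
    ∃ L : Sec (Omega.sheaf w) c.V →ₗ[Γ(W, c.V)] N, ∀ a, L (dS w c.V a) = D₀ a := by
  obtain ⟨L, hL⟩ := exists_lift c D₀ hmul hA
  exact ⟨L, hL⟩

end DS

section Maps

variable {X W Y : Scheme.{u}} (s : X ⟶ W) (w : W ⟶ Y) [QuasiCompact (pullback.diagonal w)]
  [QuasiCompact (pullback.diagonal (s ≫ w))]

theorem pMap_secS (V : W.Opens) (a : Γ(W, V)) :
    appS (pMap s w) (s ⁻¹ᵁ V) (secS s (Omega.sheaf w) V (dS w V a)) = dS (s ≫ w) (s ⁻¹ᵁ V) (s.app V a) :=
  pMap_sec_d s w V a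

/-- The value of a section of the ideal sheaf. -/
noncomputable def valS (V : W.Opens) : Sec (ClSub.idealMod s.ker) V →ₗ[Γ(W, V)] Γ(W, V) where
  toFun := val s.ker
  map_add' := val_add s.ker
  map_smul' := val_smul s.ker

theorem valS_injective (V : W.Opens) : Function.Injective (valS s V) := val_injective s.ker V

theorem valS_res {V V' : W.Opens} (h : V' ≤ V) (c : Sec (ClSub.idealMod s.ker) V) :
    valS s V' (res _ h c) = resO W h (valS s V c) := val_res s.ker h c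

theorem app_eq_zero_iffS [QuasiCompact s] (V : W.Opens) (a : Γ(W, V)) :
    s.app V a = 0 ↔ ∃ c : Sec (ClSub.idealMod s.ker) V, valS s V c = a := app_eq_zero_iff s V a

/-- `secS`, with values in the conormal module. -/
noncomputable def cS (V : W.Opens) : Sec (ClSub.idealMod s.ker) V →+ Sec (Omega.conormal s) (s ⁻¹ᵁ V) :=
  secS s (ClSub.idealMod s.ker) V

theorem dMap_cS [QuasiCompact s] (V : W.Opens) (c : Sec (ClSub.idealMod s.ker) V) :
    appS (dMap s w) (s ⁻¹ᵁ V) (cS s V c) = secS s (Omega.sheaf w) V (dS w V (valS s V c)) :=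
  dMap_sec s w V c

end Maps

section Exact

variable {X W Y : Scheme.{u}} (s : X ⟶ W) [IsClosedImmersion s] (w : W ⟶ Y)
  [QuasiCompact (pullback.diagonal w)] [QuasiCompact (pullback.diagonal (s ≫ w))]

/-- The chart of `X` induced by a chart of `W`. -/
abbrev chX (c : Ch w) : Ch (s ≫ w) where
  V := s ⁻¹ᵁ c.V
  hV := c.hV.preimage s
  T := c.T
  hT := c.hT
  e := s.preimage_mono c.e

omit [IsClosedImmersion s] [QuasiCompact (pullback.diagonal w)] [QuasiCompact (pullback.diagonal (s ≫ w))] in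
theorem appLE_chX (c : Ch w) (a : Γ(Y, c.T)) : (s ≫ w).appLE c.T (s ⁻¹ᵁ c.V) (s.preimage_mono c.e) a =
    s.app c.V (w.appLE c.T c.V c.e a) := by
  have h2 := Scheme.Hom.appLE_comp_appLE s w c.T c.V (s ⁻¹ᵁ c.V) c.e le_rfl
  rw [← h2, Scheme.Hom.app_eq_appLE]
  rfl

omit [QuasiCompact (pullback.diagonal (s ≫ w))] in
theorem span_secS_dS (c : Ch w) : Submodule.span Γ(X, s ⁻¹ᵁ c.V) (Set.range (fun a : Γ(W, c.V) =>
    secS s (Omega.sheaf w) c.V (dS w c.V a))) = ⊤ :=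
  span_secS s (Omega.sheaf w) (isQCoh_omega w) c.hV (c.hV.preimage s) (dS w c.V)
    (span_dS c)

theorem span_dS_chX (c : Ch w) :
    Submodule.span Γ(X, s ⁻¹ᵁ c.V) (Set.range (dS (s ≫ w) (s ⁻¹ᵁ c.V))) = ⊤ := span_dS (chX s w c)

theorem exists_lift_chX (c : Ch w) {N : Type u} [AddCommGroup N] [Module Γ(X, s ⁻¹ᵁ c.V) N]
    (D₀ : Γ(X, s ⁻¹ᵁ c.V) →+ N) (hmul : ∀ a b, D₀ (a * b) = a • D₀ b + b • D₀ a)
    (hA : ∀ a : Γ(Y, c.T), D₀ (s.app c.V (w.appLE c.T c.V c.e a)) = 0) :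
    ∃ L : Sec (Omega.sheaf (s ≫ w)) (s ⁻¹ᵁ c.V) →ₗ[Γ(X, s ⁻¹ᵁ c.V)] N,
      ∀ a, L (dS (s ≫ w) (s ⁻¹ᵁ c.V) a) = D₀ a :=
  exists_liftS (chX s w c) D₀ hmul (fun a => (congrArg D₀ (appLE_chX s w c a)).trans (hA a))

/-- `s^* Ω_{W/Y} → Ω_{X/Y}` is surjective over charts. -/
theorem surj_pMap (c : Ch w) : Function.Surjective (appS (pMap s w) (s ⁻¹ᵁ c.V)) := by
  rw [← LinearMap.range_eq_top, eq_top_iff, ← span_dS_chX s w c]
  refine Submodule.span_le.mpr ?_
  rintro _ ⟨b, rfl⟩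
  obtain ⟨a, rfl⟩ := s.app_surjective c.V c.hV b
  exact ⟨_, pMap_secS s w c.V a⟩

/-- Exactness at `s^* Ω_{W/Y}` over charts. -/
theorem ex_pMap (c : Ch w) (x : Sec ((Scheme.Modules.pullback s).obj (Omega.sheaf w)) (s ⁻¹ᵁ c.V))
    (hx : appS (pMap s w) (s ⁻¹ᵁ c.V) x = 0) :
    ∃ y : Sec (Omega.conormal s) (s ⁻¹ᵁ c.V), appS (dMap s w) (s ⁻¹ᵁ c.V) y = x := by
  refine ConAlg.exact_of_derivation (s.app c.V).hom (s.app_surjective c.V c.hV)
    (appS (dMap s w) (s ⁻¹ᵁ c.V)) (appS (pMap s w) (s ⁻¹ᵁ c.V))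
    (Set.range (w.appLE c.T c.V c.e)) ((secS s (Omega.sheaf w) c.V).comp (dS w c.V)) ?_ ?_ ?_ ?_
    (dS (s ≫ w) (s ⁻¹ᵁ c.V)) (pMap_secS s w c.V) ?_ x hx
  · intro a b
    rw [AddMonoidHom.comp_apply, AddMonoidHom.comp_apply, AddMonoidHom.comp_apply, dS_mul, map_add,
      secS_smul, secS_smul]
  · rintro _ ⟨a, rfl⟩
    rw [AddMonoidHom.comp_apply, dS_appLE, map_zero]
  · intro a ha
    obtain ⟨y, rfl⟩ := (app_eq_zero_iffS s c.V a).mp ha
    exact ⟨cS s c.V y, dMap_cS s w c.V y⟩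
  · exact span_secS_dS s w c
  · intro N _ _ D₀ h1 h2
    exact exists_lift_chX s w c D₀ h1 (fun a => h2 _ ⟨a, rfl⟩)

end Exact

end Groth.Agent.Dual.H366.ConSec
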