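import Groth.Agent.CurvesB.OmegaDer
import Groth.Agent.Sga67.Sec

/-!
# The maps `C_{X/W} → s^* Ω_{W/Y} → Ω_{X/Y}` for a closed immersion `s : X ⟶ W` over `Y`

Constructed from the universal derivations of `CurvesB.OmegaDer`:
* `pMap : s^* Ω_{W/Y} ⟶ Ω_{X/Y}`, `s^*(d a) ↦ d (s^# a)`;
* `dMap : C_{X/W} ⟶ s^* Ω_{W/Y}`, `s^*(c) ↦ s^*(d c)`;
and their exactness on the affine opens `s⁻¹ V`, `V` affine in `W` lying over an affine open of `Y`.
-/

set_option autoImplicit false
universe u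
open CategoryTheory CategoryTheory.Limits AlgebraicGeometry Opposite TopologicalSpace

namespace Groth.Agent.Dual.H366.Conormal

open Groth.Agent.PerfA.IdealModule Groth.Agent.VarietyB Groth.Agent.Sga67.Sec
open Groth.Agent.CurvesB.OmegaDer (d d_mul d_res der der_apply algX modO isScalarTower bijective_lift)

section Chart

variable {W Y : Scheme.{u}} (w : W ⟶ Y)

/-- An affine open `V` of `W` lying over an affine open `T` of `Y`. -/
structure Ch where
  V : W.Opens
  hV : IsAffineOpen V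
  T : Y.Opens
  hT : IsAffineOpen T
  e : V ≤ w ⁻¹ᵁ T

theorem exists_ch (x : W) (O : W.Opens) (hx : x ∈ O) : ∃ c : Ch w, x ∈ c.V ∧ c.V ≤ O := by
  obtain ⟨_, ⟨T, hT, rfl⟩, hxT, -⟩ :=
    Y.isBasis_affineOpens.exists_subset_of_mem_open (Set.mem_univ (w x)) isOpen_univ
  obtain ⟨_, ⟨V, hV, rfl⟩, hxV, hVO⟩ :=
    W.isBasis_affineOpens.exists_subset_of_mem_open (a := x) (u := (O ⊓ w ⁻¹ᵁ T : W.Opens)) ⟨hx, hxT⟩
      (O ⊓ w ⁻¹ᵁ T).2
  exact ⟨⟨V, hV, T, hT, fun y hy => (hVO hy).2⟩, hxV, fun y hy => (hVO hy).1⟩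

theorem isBasis_ch : Opens.IsBasis (Set.range (fun c : Ch w => c.V)) := by
  rw [Opens.isBasis_iff_nbhd]
  intro O x hx
  obtain ⟨c, hc, hcO⟩ := exists_ch w x O hx
  exact ⟨_, ⟨c, rfl⟩, hc, hcO⟩

variable {w} [QuasiCompact (pullback.diagonal w)]

theorem d_appLE (c : Ch w) (a : Γ(Y, c.T)) : d w c.V (w.appLE c.T c.V c.e a) = 0 := by
  let := algX w c.e
  let := modO w c.e
  have := isScalarTower w c.e
  rw [← der_apply w c.e]
  exact (der w c.e).map_algebraMap a

/-- Over an affine chart `Γ(Ω, V)` is generated by the differentials. -/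
theorem span_d (c : Ch w) : Submodule.span Γ(W, c.V) (Set.range (d w c.V)) = ⊤ := by
  let := algX w c.e
  let := modO w c.e
  have := isScalarTower w c.e
  have h1 := bijective_lift w c.e c.hT c.hV
  have h2 := KaehlerDifferential.span_range_derivation Γ(Y, c.T) Γ(W, c.V)
  have h3 : Submodule.map (der w c.e).liftKaehlerDifferential ⊤ = ⊤ := by
    rw [Submodule.map_top]
    exact LinearMap.range_eq_top.mpr h1.2
  rw [← h3, ← h2, Submodule.map_span, ← Set.range_comp]
  congr 2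
  funext a
  rw [Function.comp_apply, Derivation.liftKaehlerDifferential_comp_D, der_apply]

/-- Universal property of `Γ(Ω, V)` over an affine chart. -/
theorem exists_lift (c : Ch w) {N : Type u} [AddCommGroup N] [Module Γ(W, c.V) N] (D₀ : Γ(W, c.V) →+ N)
    (hmul : ∀ a b, D₀ (a * b) = a • D₀ b + b • D₀ a)
    (hA : ∀ a : Γ(Y, c.T), D₀ (w.appLE c.T c.V c.e a) = 0) :
    ∃ L : Γ(Omega.sheaf w, c.V) →ₗ[Γ(W, c.V)] N, ∀ a, L (d w c.V a) = D₀ a := by
  let := algX w c.e
  let := modO w c.e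
  have := isScalarTower w c.e
  let : Module Γ(Y, c.T) N := Module.compHom _ (w.appLE c.T c.V c.e).hom
  have : IsScalarTower Γ(Y, c.T) Γ(W, c.V) N :=
    ⟨fun a b c => by rw [Algebra.smul_def, mul_smul]; rfl⟩
  let D : Derivation Γ(Y, c.T) Γ(W, c.V) N :=
    { toFun := D₀
      map_add' := map_add _
      map_smul' := fun a b => by
        rw [Algebra.smul_def, hmul]
        have : D₀ (algebraMap Γ(Y, c.T) Γ(W, c.V) a) = 0 := hA a
        rw [this, smul_zero, add_zero]
        rfl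
      map_one_eq_zero' := by
        have : D₀ (w.appLE c.T c.V c.e 1) = 0 := hA 1
        rwa [map_one] at this
      leibniz' := hmul }
  let e := LinearEquiv.ofBijective _ (bijective_lift w c.e c.hT c.hV)
  refine ⟨D.liftKaehlerDifferential ∘ₗ e.symm.toLinearMap, fun a => ?_⟩
  have h1 : e (KaehlerDifferential.D Γ(Y, c.T) Γ(W, c.V) a) = d w c.V a := by
    change (der w c.e).liftKaehlerDifferential _ = _
    rw [Derivation.liftKaehlerDifferential_comp_D, der_apply]
  rw [← h1]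
  change D.liftKaehlerDifferential (e.symm (e _)) = _
  rw [LinearEquiv.symm_apply_apply, Derivation.liftKaehlerDifferential_comp_D]
  rfl

end Chart

section Maps

variable {X W Y : Scheme.{u}} (s : X ⟶ W) (w : W ⟶ Y) [QuasiCompact (pullback.diagonal w)]
  [QuasiCompact (pullback.diagonal (s ≫ w))]

/-- A section over `s⁻¹ V` as a section of the direct image. -/
def toPush {V : W.Opens} {M : X.Modules} (x : Γ(M, s ⁻¹ᵁ V)) :
    Sec ((Scheme.Modules.pushforward s).obj M) V := x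

/-- A section of the direct image as a section over `s⁻¹ V`. -/
def ofPush {V : W.Opens} {M : X.Modules} (x : Sec ((Scheme.Modules.pushforward s).obj M) V) :
    Γ(M, s ⁻¹ᵁ V) := x

theorem smul_toPush {V : W.Opens} {M : X.Modules} (a : Γ(W, V)) (x : Γ(M, s ⁻¹ᵁ V)) :
    a • toPush s x = toPush s (s.app V a • x) := rfl

theorem res_toPush {V V' : W.Opens} (h : V' ≤ V) {M : X.Modules} (x : Γ(M, s ⁻¹ᵁ V)) :
    res _ h (toPush s x) = toPush s (res M (s.preimage_mono h) x) := rfl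

theorem exists_pLoc (c : Ch w) : ∃ L : Sec (Omega.sheaf w) c.V →ₗ[Γ(W, c.V)]
      Sec ((Scheme.Modules.pushforward s).obj (Omega.sheaf (s ≫ w))) c.V,
    ∀ a, L (d w c.V a) = toPush s (d (s ≫ w) (s ⁻¹ᵁ c.V) (s.app c.V a)) := by
  refine exists_lift c (N := Sec ((Scheme.Modules.pushforward s).obj (Omega.sheaf (s ≫ w))) c.V)
    ⟨⟨fun a => toPush s (d (s ≫ w) (s ⁻¹ᵁ c.V) (s.app c.V a)), ?_⟩, ?_⟩ ?_ ?_
  · rw [map_zero, map_zero]; rfl
  · intro a b
    change toPush s (d (s ≫ w) (s ⁻¹ᵁ c.V) (s.app c.V (a + b))) =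
      toPush s (d (s ≫ w) (s ⁻¹ᵁ c.V) (s.app c.V a)) + toPush s (d (s ≫ w) (s ⁻¹ᵁ c.V) (s.app c.V b))
    rw [map_add, map_add]; rfl
  · intro a b
    change toPush s (d (s ≫ w) (s ⁻¹ᵁ c.V) (s.app c.V (a * b))) =
      a • toPush s (d (s ≫ w) (s ⁻¹ᵁ c.V) (s.app c.V b)) +
        b • toPush s (d (s ≫ w) (s ⁻¹ᵁ c.V) (s.app c.V a))
    rw [map_mul, d_mul, smul_toPush, smul_toPush]
    rfl
  · intro a
    change d (s ≫ w) (s ⁻¹ᵁ c.V) (s.app c.V (w.appLE c.T c.V c.e a)) = 0
    by_cases hX : s ⁻¹ᵁ c.V ≤ (s ≫ w) ⁻¹ᵁ c.T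
    · have h1 : s.app c.V (w.appLE c.T c.V c.e a) = (s ≫ w).appLE c.T (s ⁻¹ᵁ c.V) hX a := by
        have h2 := Scheme.Hom.appLE_comp_appLE s w c.T c.V (s ⁻¹ᵁ c.V) c.e le_rfl
        rw [← h2, Scheme.Hom.app_eq_appLE]
        rfl
      rw [h1]
      let := algX (s ≫ w) hX
      let := modO (s ≫ w) hX
      have := isScalarTower (s ≫ w) hX
      rw [← der_apply (s ≫ w) hX]
      exact (der (s ≫ w) hX).map_algebraMap a
    · exact absurd (s.preimage_mono c.e) hX

theorem exists_pAdj : ∃ p' : Omega.sheaf w ⟶ (Scheme.Modules.pushforward s).obj (Omega.sheaf (s ≫ w)),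
    ∀ (V : W.Opens) (a : Γ(W, V)), appS p' V (d w V a) = toPush s (d (s ≫ w) (s ⁻¹ᵁ V) (s.app V a)) := by
  choose L hL using exists_pLoc s w
  obtain ⟨p', hp'⟩ := exists_hom_of_basis' (isBasis_ch w) (Omega.sheaf w)
    ((Scheme.Modules.pushforward s).obj (Omega.sheaf (s ≫ w))) L (by
      intro c c' h x
      have hx : x ∈ Submodule.span Γ(W, c.V) (Set.range (d w c.V)) := by rw [span_d]; trivial
      induction hx using Submodule.span_induction with
      | mem x hx =>
        obtain ⟨a, rfl⟩ := hx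
        rw [hL, res_toPush]
        have h1 : res (Omega.sheaf w) h (d w c.V a) = d w c'.V (resO W h a) := d_res w h a
        have h2 : res (Omega.sheaf (s ≫ w)) (s.preimage_mono h) (d (s ≫ w) (s ⁻¹ᵁ c.V) (s.app c.V a)) =
          d (s ≫ w) (s ⁻¹ᵁ c'.V) (resO X (s.preimage_mono h) (s.app c.V a)) := d_res (s ≫ w) _ _
        rw [h1, h2, hL]
        congr 2
        exact congr($(s.naturality (homOfLE h).op) a)
      | zero => simp only [map_zero]
      | add x y _ _ hx hy => simp only [map_add, hx, hy]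
      | smul a x _ hx => rw [res_smul, map_smul, map_smul, res_smul, hx])
  refine ⟨p', fun V a => ?_⟩
  apply eq_of_locally
  intro x hx
  obtain ⟨c, hc, hcV⟩ := exists_ch w x V hx
  refine ⟨c.V, hcV, hc, ?_⟩
  have h1 : res (Omega.sheaf w) hcV (d w V a) = d w c.V (resO W hcV a) := d_res w hcV a
  have h2 : res (Omega.sheaf (s ≫ w)) (s.preimage_mono hcV) (d (s ≫ w) (s ⁻¹ᵁ V) (s.app V a)) =
          d (s ≫ w) (s ⁻¹ᵁ c.V) (resO X (s.preimage_mono hcV) (s.app V a)) := d_res (s ≫ w) _ _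
  rw [← appS_res, h1, hp', hL, res_toPush, h2]
  congr 2
  exact congr($(s.naturality (homOfLE hcV).op) a)

/-- The adjoint of `s^* Ω_{W/Y} → Ω_{X/Y}`. -/
noncomputable def pAdj : Omega.sheaf w ⟶ (Scheme.Modules.pushforward s).obj (Omega.sheaf (s ≫ w)) :=
  (exists_pAdj s w).choose

theorem pAdj_d (V : W.Opens) (a : Γ(W, V)) :
    appS (pAdj s w) V (d w V a) = toPush s (d (s ≫ w) (s ⁻¹ᵁ V) (s.app V a)) :=
  (exists_pAdj s w).choose_spec V a

/-- `s^* Ω_{W/Y} → Ω_{X/Y}`. -/
noncomputable def pMap : (Scheme.Modules.pullback s).obj (Omega.sheaf w) ⟶ Omega.sheaf (s ≫ w) :=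
  ((Scheme.Modules.pullbackPushforwardAdjunction s).homEquiv _ _).symm (pAdj s w)

omit [QuasiCompact (pullback.diagonal w)] [QuasiCompact (pullback.diagonal (s ≫ w))] in
/-- A morphism out of a pullback, on pulled back sections. -/
theorem homEquiv_symm_sec {M : W.Modules} {N : X.Modules} (g : M ⟶ (Scheme.Modules.pushforward s).obj N)
    (V : W.Opens) (x : Γ(M, V)) :
    appS (((Scheme.Modules.pullbackPushforwardAdjunction s).homEquiv _ _).symm g) (s ⁻¹ᵁ V)
      (PullSec.sec s M (le_refl (s ⁻¹ᵁ V)) x) = ofPush s (appS g V x) := by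
  set k := ((Scheme.Modules.pullbackPushforwardAdjunction s).homEquiv _ _).symm g with hk
  have h1 : (Scheme.Modules.pullbackPushforwardAdjunction s).unit.app M ≫
      (Scheme.Modules.pushforward s).map k = g := by
    have := ((Scheme.Modules.pullbackPushforwardAdjunction s).homEquiv _ _).apply_symm_apply g
    rw [Adjunction.homEquiv_unit] at this
    exact this
  have h2 : appS g V x = appS ((Scheme.Modules.pushforward s).map k) V
      (appS ((Scheme.Modules.pullbackPushforwardAdjunction s).unit.app M) V x) := by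
    rw [← appS_comp, h1]
  rw [h2, PullSec.sec_apply]
  have h3 : ((Scheme.Modules.pullback s).obj M).presheaf.map (homOfLE (le_refl (s ⁻¹ᵁ V))).op
      (((Scheme.Modules.pullbackPushforwardAdjunction s).unit.app M).app V x) =
      (((Scheme.Modules.pullbackPushforwardAdjunction s).unit.app M).app V x) :=
    res_self ((Scheme.Modules.pullback s).obj M) (le_refl (s ⁻¹ᵁ V)) _
  rw [h3]
  rfl

theorem pMap_sec_d (V : W.Opens) (a : Γ(W, V)) :
    appS (pMap s w) (s ⁻¹ᵁ V) (PullSec.sec s (Omega.sheaf w) (le_refl (s ⁻¹ᵁ V)) (d w V a)) =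
      d (s ≫ w) (s ⁻¹ᵁ V) (s.app V a) := by
  rw [pMap, homEquiv_symm_sec, pAdj_d]
  rfl

omit [QuasiCompact (pullback.diagonal w)] [QuasiCompact (pullback.diagonal (s ≫ w))] in
/-- Functions vanishing on `X` are the sections of the ideal module. -/
theorem app_eq_zero_iff [QuasiCompact s] (V : W.Opens) (a : Γ(W, V)) :
    s.app V a = 0 ↔ ∃ c : Γ(ClSub.idealMod s.ker, V), val s.ker c = a := by
  rw [Smoothlim.ConormalRes.app_eq_zero_iff_imageι]
  exact (exact_app s.ker V) a

omit [QuasiCompact (pullback.diagonal w)] [QuasiCompact (pullback.diagonal (s ≫ w))] in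
theorem val_add (I : W.IdealSheafData) {U : W.Opens} (x y : Γ(ClSub.idealMod I, U)) :
    val I (x + y) = val I x + val I y := (CohqB.FiniteType2.appLinear (ClSub.idealModι I) U).map_add x y

omit [QuasiCompact (pullback.diagonal w)] [QuasiCompact (pullback.diagonal (s ≫ w))] in
theorem sec_smul' {M : W.Modules} (V : W.Opens) (a : Γ(W, V)) (x : Γ(M, V)) :
    PullSec.sec s M (le_refl (s ⁻¹ᵁ V)) (a • x) = s.app V a • PullSec.sec s M (le_refl (s ⁻¹ᵁ V)) x := by
  rw [PullSec.sec_smul, Scheme.Hom.appLE_eq_app]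

variable [QuasiCompact s]

/-- The adjoint of `C_{X/W} → s^* Ω_{W/Y}`, on sections. -/
noncomputable def dLoc (V : W.Opens) : Sec (ClSub.idealMod s.ker) V →ₗ[Γ(W, V)]
    Sec ((Scheme.Modules.pushforward s).obj ((Scheme.Modules.pullback s).obj (Omega.sheaf w))) V where
  toFun c := toPush s (PullSec.sec s (Omega.sheaf w) (le_refl (s ⁻¹ᵁ V)) (d w V (val s.ker c)))
  map_add' x y := by
    have h0 : val s.ker (x + y) = val s.ker x + val s.ker y := val_add s.ker _ _
    rw [h0, map_add, map_add]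
    rfl
  map_smul' a x := by
    have h1 : s.app V (val s.ker x) = 0 := (app_eq_zero_iff s V _).mpr ⟨x, rfl⟩
    have h0 : val s.ker (a • x) = a * val s.ker x := val_smul s.ker _ _
    rw [h0, d_mul, map_add, sec_smul', sec_smul', h1, zero_smul, add_zero, RingHom.id_apply, smul_toPush]

theorem exists_dAdj : ∃ δ' : ClSub.idealMod s.ker ⟶
      (Scheme.Modules.pushforward s).obj ((Scheme.Modules.pullback s).obj (Omega.sheaf w)),
    ∀ (V : W.Opens) (c : Γ(ClSub.idealMod s.ker, V)), appS δ' V c =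
      toPush s (PullSec.sec s (Omega.sheaf w) (le_refl (s ⁻¹ᵁ V)) (d w V (val s.ker c))) := by
  have hB : Opens.IsBasis (Set.range (fun V : W.Opens => V)) := by
    rw [Opens.isBasis_iff_nbhd]
    intro O x hx
    exact ⟨O, ⟨O, rfl⟩, hx, le_rfl⟩
  obtain ⟨δ', h⟩ := exists_hom_of_basis' hB (ClSub.idealMod s.ker)
    ((Scheme.Modules.pushforward s).obj ((Scheme.Modules.pullback s).obj (Omega.sheaf w))) (fun V => dLoc s w V)
    (by
      intro V V' h x
      change toPush s (PullSec.sec s (Omega.sheaf w) (le_refl (s ⁻¹ᵁ V')) (d w V' (val s.ker (res _ h x)))) =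
        toPush s (res ((Scheme.Modules.pullback s).obj (Omega.sheaf w)) (s.preimage_mono h)
          (PullSec.sec s (Omega.sheaf w) (le_refl (s ⁻¹ᵁ V)) (d w V (val s.ker x))))
      have h1 : res ((Scheme.Modules.pullback s).obj (Omega.sheaf w)) (s.preimage_mono h)
          (PullSec.sec s (Omega.sheaf w) (le_refl (s ⁻¹ᵁ V)) (d w V (val s.ker x))) =
          PullSec.sec s (Omega.sheaf w) (le_refl (s ⁻¹ᵁ V'))
            ((Omega.sheaf w).presheaf.map (homOfLE h).op (d w V (val s.ker x))) :=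
        PullSec.sec_res s (Omega.sheaf w) (le_refl (s ⁻¹ᵁ V)) (le_refl (s ⁻¹ᵁ V')) h (s.preimage_mono h) _
      rw [h1, d_res w h]
      congr 3
      exact val_res s.ker h x)
  exact ⟨δ', h⟩

/-- The adjoint of `C_{X/W} → s^* Ω_{W/Y}`. -/
noncomputable def dAdj : ClSub.idealMod s.ker ⟶
    (Scheme.Modules.pushforward s).obj ((Scheme.Modules.pullback s).obj (Omega.sheaf w)) :=
  (exists_dAdj s w).choose

theorem dAdj_apply (V : W.Opens) (c : Γ(ClSub.idealMod s.ker, V)) : appS (dAdj s w) V c =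
      toPush s (PullSec.sec s (Omega.sheaf w) (le_refl (s ⁻¹ᵁ V)) (d w V (val s.ker c))) :=
  (exists_dAdj s w).choose_spec V c

/-- `C_{X/W} → s^* Ω_{W/Y}`. -/
noncomputable def dMap : Omega.conormal s ⟶ (Scheme.Modules.pullback s).obj (Omega.sheaf w) :=
  ((Scheme.Modules.pullbackPushforwardAdjunction s).homEquiv _ _).symm (dAdj s w)

/-- The pulled back section of the conormal module. -/
noncomputable def cSec (V : W.Opens) (c : Γ(ClSub.idealMod s.ker, V)) : Γ(Omega.conormal s, s ⁻¹ᵁ V) :=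
  PullSec.sec s (ClSub.idealMod s.ker) (le_refl (s ⁻¹ᵁ V)) c

theorem dMap_sec (V : W.Opens) (c : Γ(ClSub.idealMod s.ker, V)) :
    appS (dMap s w) (s ⁻¹ᵁ V) (cSec s V c) =
      PullSec.sec s (Omega.sheaf w) (le_refl (s ⁻¹ᵁ V)) (d w V (val s.ker c)) := by
  have := homEquiv_symm_sec s (dAdj s w) V c
  rw [dAdj_apply] at this
  exact this

end Maps

end Groth.Agent.Dual.H366.Conormal
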