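import Groth.Agent.Krr.H495.ExtSemi
import Mathlib.LinearAlgebra.ExteriorAlgebra.Basic
import Mathlib.RingTheory.IsTensorProduct
import Mathlib.RingTheory.Localization.BaseChange
import Mathlib.Algebra.Module.LocalizedModule.Basic
import Mathlib.RingTheory.TensorProduct.Basic

/-!
# Exterior powers and base change / localization

* `exists_algHom`: for a base change `f : M → N` along `A → B` an algebra map
  `Λ_B N → B ⊗ Λ_A M` sending `f m` to `1 ⊗ m`.
* `exists_smul_eq_zero`: if `B` is a localization of `A` at `S` and `N` that of `M`, elements of the kernel of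
  `Λ^i_A M → Λ^i_B N` are killed by an element of `S`.
* `exists_smul_eq_extS`: every element of `Λ^i_B N` comes from `Λ^i_A M` after multiplication by an element of `S`.
-/

set_option autoImplicit false

open scoped TensorProduct
open Groth.Agent.Krr.H495.ExtSemi

namespace Groth.Agent.Dual.H366.ExtLoc

variable {A B : Type*} [CommRing A] [CommRing B] [Algebra A B]
  {M N : Type*} [AddCommGroup M] [Module A M] [AddCommGroup N] [Module A N] [Module B N]
  [IsScalarTower A B N]

/-- A linear map as a semilinear map along the structure map. -/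
def semi (f : M →ₗ[A] N) : M →ₛₗ[algebraMap A B] N where
  toFun := f
  map_add' := map_add f
  map_smul' a m := by rw [map_smul, algebraMap_smul]

@[simp]
theorem semi_apply (f : M →ₗ[A] N) (m : M) : semi (B := B) f m = f m := rfl

section BaseChange

variable {f : M →ₗ[A] N} (hf : IsBaseChange B f)

/-- The linear map `N → B ⊗ Λ_A M`. -/
noncomputable def lin (hf : IsBaseChange B f) : N →ₗ[B] B ⊗[A] ExteriorAlgebra A M :=
  hf.lift ((Algebra.TensorProduct.includeRight : ExteriorAlgebra A M →ₐ[A] B ⊗[A] ExteriorAlgebra A M).toLinearMap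
    ∘ₗ ExteriorAlgebra.ι A)

theorem lin_apply (m : M) : lin hf (f m) = 1 ⊗ₜ ExteriorAlgebra.ι A m := by
  rw [lin, hf.lift_eq]
  rfl

theorem lin_anticomm (x y : N) : lin hf x * lin hf y + lin hf y * lin hf x = 0 := by
  induction x using hf.inductionOn with
  | zero => simp
  | smul b x hx => rw [map_smul, smul_mul_assoc, mul_smul_comm, ← smul_add, hx, smul_zero]
  | add x x' hx hx' =>
    rw [map_add, add_mul, mul_add, add_add_add_comm, hx, hx', add_zero]
  | tmul m =>
    induction y using hf.inductionOn with
    | zero => simp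
    | smul b x hx => rw [map_smul, smul_mul_assoc, mul_smul_comm, ← smul_add, hx, smul_zero]
    | add x x' hx hx' =>
      rw [map_add, add_mul, mul_add, add_add_add_comm, hx, hx', add_zero]
    | tmul m' =>
      rw [lin_apply, lin_apply, Algebra.TensorProduct.tmul_mul_tmul, Algebra.TensorProduct.tmul_mul_tmul,
        ← TensorProduct.tmul_add, ExteriorAlgebra.ι_add_mul_swap, TensorProduct.tmul_zero]

theorem lin_sq (x : N) : lin hf x * lin hf x = 0 := by
  induction x using hf.inductionOn with
  | zero => simp
  | smul b x hx => rw [map_smul, smul_mul_assoc, mul_smul_comm, hx, smul_zero, smul_zero]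
  | add x y hx hy =>
    rw [map_add, add_mul, mul_add, mul_add, hx, hy, zero_add, add_zero, lin_anticomm hf]
  | tmul m =>
    rw [lin_apply, Algebra.TensorProduct.tmul_mul_tmul, ExteriorAlgebra.ι_sq_zero, TensorProduct.tmul_zero]

/-- The algebra map `Λ_B N → B ⊗ Λ_A M`. -/
noncomputable def algHom : ExteriorAlgebra B N →ₐ[B] B ⊗[A] ExteriorAlgebra A M :=
  ExteriorAlgebra.lift B ⟨lin hf, lin_sq hf⟩

theorem algHom_ι (x : N) : algHom hf (ExteriorAlgebra.ι B x) = lin hf x :=
  ExteriorAlgebra.lift_ι_apply B _ _ x

theorem algHom_extS (i : ℕ) (x : ⋀[A]^i M) :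
    algHom hf (extS i (semi (B := B) f) x : ExteriorAlgebra B N) = 1 ⊗ₜ (x : ExteriorAlgebra A M) := by
  have hx : x ∈ Submodule.span A (Set.range (exteriorPower.ιMulti A i (M := M))) := by
    rw [exteriorPower.ιMulti_span]; trivial
  induction hx using Submodule.span_induction with
  | mem x hx =>
    obtain ⟨v, rfl⟩ := hx
    rw [extS_ιMulti, exteriorPower.ιMulti_apply_coe, exteriorPower.ιMulti_apply_coe,
      ExteriorAlgebra.ιMulti_apply, ExteriorAlgebra.ιMulti_apply, map_list_prod]
    have h1 : (1 : B) ⊗ₜ[A] (List.ofFn fun j => (ExteriorAlgebra.ι A) (v j)).prod =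
        ((List.ofFn fun j => (ExteriorAlgebra.ι A) (v j)).map
          (Algebra.TensorProduct.includeRight : ExteriorAlgebra A M →ₐ[A] B ⊗[A] ExteriorAlgebra A M)).prod := by
      rw [← map_list_prod]
      rfl
    rw [h1, List.map_ofFn, List.map_ofFn]
    congr 2
    funext j
    simp only [Function.comp_apply, algHom_ι, semi_apply, lin_apply]
    rfl
  | zero => rw [map_zero]; simp
  | add x y _ _ hx hy =>
    rw [map_add, Submodule.coe_add, map_add, hx, hy, Submodule.coe_add, TensorProduct.tmul_add]
  | smul a x _ hx =>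
    rw [LinearMap.map_smulₛₗ, Submodule.coe_smul, map_smul, hx, Submodule.coe_smul, TensorProduct.tmul_smul,
      algebraMap_smul]

end BaseChange

section Localization

variable (S : Submonoid A) [IsLocalization S B] (f : M →ₗ[A] N) [IsLocalizedModule S f]

include S in
/-- Elements of the kernel of `Λ^i_A M → Λ^i_B N` are killed by an element of `S`. -/
theorem exists_smul_eq_zero (i : ℕ) (x : ⋀[A]^i M) (hx : extS i (semi (B := B) f) x = 0) :
    ∃ s : S, (s : A) • x = 0 := by
  have hf : IsBaseChange B f := (isLocalizedModule_iff_isBaseChange S B f).mp inferInstance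
  have h1 := algHom_extS hf i x
  rw [hx, Submodule.coe_zero, map_zero] at h1
  have h2 : IsLocalizedModule S (TensorProduct.mk A B (ExteriorAlgebra A M) 1) :=
    (isLocalizedModule_iff_isBaseChange S B _).mpr (TensorProduct.isBaseChange A _ B)
  obtain ⟨s, hs⟩ := (IsLocalizedModule.eq_zero_iff S (TensorProduct.mk A B (ExteriorAlgebra A M) 1)
    (m := (x : ExteriorAlgebra A M))).mp h1.symm
  refine ⟨s, Subtype.ext ?_⟩
  exact hs

include S in
/-- Every element of `Λ^i_B N` comes from `Λ^i_A M` up to `S`. -/
theorem exists_smul_eq_extS (i : ℕ) (y : ⋀[B]^i N) :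
    ∃ (s : S) (x : ⋀[A]^i M), algebraMap A B s • y = extS i (semi (B := B) f) x := by
  have hy : y ∈ Submodule.span B (Set.range (exteriorPower.ιMulti B i (M := N))) := by
    rw [exteriorPower.ιMulti_span]; trivial
  induction hy using Submodule.span_induction with
  | mem x hx =>
    obtain ⟨v, rfl⟩ := hx
    choose ms hms using fun j => IsLocalizedModule.surj S f (v j)
    refine ⟨∏ j, (ms j).2, exteriorPower.ιMulti A i (fun j => (ms j).1), ?_⟩
    rw [extS_ιMulti, Submonoid.coe_finsetProd, map_prod,
      ← AlternatingMap.map_smul_univ (exteriorPower.ιMulti B i) (fun j => algebraMap A B ((ms j).2 : A)) v]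
    congr 1
    funext j
    rw [semi_apply, ← hms j, Submonoid.smul_def, algebraMap_smul]
  | zero => exact ⟨1, 0, by simp⟩
  | add x y _ _ hx hy =>
    obtain ⟨s, a, ha⟩ := hx
    obtain ⟨t, b, hb⟩ := hy
    refine ⟨s * t, (t : A) • a + (s : A) • b, ?_⟩
    rw [map_add, LinearMap.map_smulₛₗ, LinearMap.map_smulₛₗ, ← ha, ← hb, Submonoid.coe_mul, map_mul, smul_add,
      smul_smul, smul_smul, mul_comm (algebraMap A B (t : A))]
  | smul c x _ hx =>
    obtain ⟨s, a, ha⟩ := hx
    obtain ⟨⟨d, t⟩, hd⟩ := IsLocalization.surj S c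
    refine ⟨t * s, d • a, ?_⟩
    rw [LinearMap.map_smulₛₗ, ← ha, Submonoid.coe_mul, map_mul, smul_smul, smul_smul]
    congr 1
    rw [← hd]
    ring

end Localization

end Groth.Agent.Dual.H366.ExtLoc
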