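import Groth.Agent.Krr.H495.ExtPre
import Groth.Agent.Dual.H366.ExtLoc
import Groth.Agent.Fdesc.QCohStalk
import Groth.Agent.Sga67.LocBasisOps

/-!
# Existence of exterior powers of quasi-coherent modules

* `LocP P`: the presheaf of modules `P` localizes on affine opens;
* `LocP.bijective`: then `P(U) → P^#(U)` is bijective for `U` affine;
* `isExtPow_ext`: for `E` quasi-coherent, the sheaf `ext i E` is an `i`-th exterior power of `E`.
-/

set_option autoImplicit false

universe u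

open CategoryTheory CategoryTheory.Limits AlgebraicGeometry Opposite TopologicalSpace
open Groth.Agent.Sga67.Sec Groth.Agent.Fdesc
open Groth.Agent.Krr.H495.ExtSemi Groth.Agent.Krr.H495.ExtPre

namespace Groth.Agent.Dual.H366.ExtQCoh

variable {X : Scheme.{u}}

/-- An ideal containing a power of a function non vanishing at `x`, for all `x ∈ U`, is the unit ideal. -/
theorem eq_top_of_cover {U : X.Opens} (hU : IsAffineOpen U) (J : Ideal Γ(X, U))
    (H : ∀ x ∈ U, ∃ (g : Γ(X, U)), x ∈ X.basicOpen g ∧ ∃ k : ℕ, g ^ k ∈ J) : J = ⊤ := by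
  let G : Set Γ(X, U) := {g | ∃ k : ℕ, g ^ k ∈ J}
  have h1 : Ideal.span G = ⊤ := by
    rw [← hU.self_le_iSup_basicOpen_iff]
    intro x hx
    obtain ⟨g, hg, k, hk⟩ := H x hx
    exact Opens.mem_iSup.mpr ⟨⟨g, k, hk⟩, hg⟩
  have h2 : G ⊆ J.radical := fun g ⟨k, hk⟩ => ⟨k, hk⟩
  have h3 : J.radical = ⊤ := top_le_iff.mp (h1 ▸ Ideal.span_le.mpr h2)
  exact Ideal.radical_eq_top.mp h3

/-- The presheaf of modules `P` localizes on affine opens. -/
structure LocP (P : CohB1.PMod X) : Prop where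
  inj : ∀ (U : X.Opens), IsAffineOpen U → ∀ (g : Γ(X, U)) (s : PSec P U),
    pres P (X.basicOpen_le g) s = 0 → ∃ k : ℕ, g ^ k • s = 0
  surj : ∀ (U : X.Opens), IsAffineOpen U → ∀ (g : Γ(X, U)) (t : PSec P (X.basicOpen g)),
    ∃ (k : ℕ) (s : PSec P U), pres P (X.basicOpen_le g) s = resO X (X.basicOpen_le g) (g ^ k) • t

variable {P : CohB1.PMod X}

theorem LocP.injective (hP : LocP P) {U : X.Opens} (hU : IsAffineOpen U) :
    Function.Injective (papp (eta P) U) := by
  rw [← LinearMap.ker_eq_bot, LinearMap.ker_eq_bot']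
  intro s hs
  let J : Ideal Γ(X, U) := (LinearMap.toSpanSingleton Γ(X, U) (PSec P U) s).ker
  have hJ : J = ⊤ := by
    refine eq_top_of_cover hU J fun x hx => ?_
    obtain ⟨V, hV, hxV, e⟩ := eta_locinj P s hs x hx
    obtain ⟨g, hgV, hxg⟩ := hU.exists_basicOpen_le ⟨x, hxV⟩ hx
    obtain ⟨k, hk⟩ := hP.inj U hU g s (by
       have := congrArg (pres P hgV) e
       rwa [pres_pres, map_zero] at this)
    exact ⟨g, hxg, k, hk⟩
  have h1 : (1 : Γ(X, U)) ∈ J := hJ ▸ trivial
  have h2 : (1 : Γ(X, U)) • s = 0 := h1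
  rwa [one_smul] at h2

theorem LocP.exists_pow_smul (hP : LocP P) {U : X.Opens} (hU : IsAffineOpen U) (g : Γ(X, U))
    (t : Sec ((CohB1.sheafifyMod X).obj P) U) (ht : res _ (X.basicOpen_le g) t = 0) :
    ∃ l : ℕ, g ^ l • t = 0 := by
  classical
  let G : Set Γ(X, U) := {h | ∃ l : ℕ, res _ (X.basicOpen_le h) (g ^ l • t) = 0}
  have h1 : Ideal.span G = ⊤ := by
    rw [← hU.self_le_iSup_basicOpen_iff]
    intro x hx
    obtain ⟨V, hV, hxV, s', hs'⟩ := eta_locsurj P t x hx
    obtain ⟨h, hhV, hxh⟩ := hU.exists_basicOpen_le ⟨x, hxV⟩ hx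
    refine Opens.mem_iSup.mpr ⟨⟨h, ?_⟩, hxh⟩
    have hs'' : papp (eta P) (X.basicOpen h) (pres P hhV s') = res _ (X.basicOpen_le h) t := by
      rw [papp_pres, hs']
      exact res_res _ _ _ _
    let g' : Γ(X, X.basicOpen h) := resO X (X.basicOpen_le h) g
    have hg' : X.basicOpen g' ≤ X.basicOpen g := by
      change X.basicOpen (X.presheaf.map (homOfLE (X.basicOpen_le h)).op g) ≤ _
      rw [Scheme.basicOpen_res]
      exact inf_le_right
    have h2 : pres P (X.basicOpen_le g') (pres P hhV s') = 0 := by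
      apply hP.injective ((hU.basicOpen h).basicOpen g')
      rw [papp_pres, hs'', map_zero]
      refine (res_res _ _ _ _).trans ?_
      rw [← res_res _ (X.basicOpen_le g) hg', ht, map_zero]
    obtain ⟨l, hl⟩ := hP.inj _ (hU.basicOpen h) g' _ h2
    refine ⟨l, ?_⟩
    rw [res_smul, ← hs'', map_pow, ← map_smul]
    exact (congrArg _ hl).trans (map_zero _)
  obtain ⟨T, hTG, hT⟩ := (Ideal.span_eq_top_iff_finite G).mp h1
  have hTG' : ∀ h : Γ(X, U), ∃ l : ℕ, h ∈ T →
      res ((CohB1.sheafifyMod X).obj P) (X.basicOpen_le h) (g ^ l • t) = 0 := by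
    intro h
    by_cases hh : h ∈ T
    · obtain ⟨l, hl⟩ := hTG hh
      exact ⟨l, fun _ => hl⟩
    · exact ⟨0, fun h' => absurd h' hh⟩
  choose l hl using hTG'
  refine ⟨∑ h ∈ T, l h, ?_⟩
  apply eq_of_locally
  intro x hx
  have h3 := (hU.self_le_iSup_basicOpen_iff.mpr hT) hx
  obtain ⟨⟨h, hh⟩, hxh⟩ := Opens.mem_iSup.mp h3
  refine ⟨X.basicOpen h, X.basicOpen_le h, hxh, ?_⟩
  have h4 : ∑ h ∈ T, l h = l h + (∑ h' ∈ T.erase h, l h') := (Finset.add_sum_erase T l hh).symm
  rw [h4, pow_add, mul_comm, mul_smul, res_smul]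
  refine Eq.trans ?_ (map_zero (res _ _)).symm
  exact (congrArg _ (hl h hh)).trans (smul_zero _)

theorem LocP.surjective (hP : LocP P) {U : X.Opens} (hU : IsAffineOpen U) :
    Function.Surjective (papp (eta P) U) := by
  intro t
  let J : Ideal Γ(X, U) := (LinearMap.range (papp (eta P) U)).comap
    (LinearMap.toSpanSingleton Γ(X, U) (Sec ((CohB1.sheafifyMod X).obj P) U) t)
  have hJ : J = ⊤ := by
    refine eq_top_of_cover hU J fun x hx => ?_
    obtain ⟨V, hV, hxV, s', hs'⟩ := eta_locsurj P t x hx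
    obtain ⟨h, hhV, hxh⟩ := hU.exists_basicOpen_le ⟨x, hxV⟩ hx
    have hs'' : papp (eta P) (X.basicOpen h) (pres P hhV s') = res _ (X.basicOpen_le h) t := by
      rw [papp_pres, hs']
      exact res_res _ _ _ _
    obtain ⟨k, s₀, hs₀⟩ := hP.surj U hU h (pres P hhV s')
    obtain ⟨l, hl⟩ := hP.exists_pow_smul hU h (h ^ k • t - papp (eta P) U s₀) (by
      have h5 : res _ (X.basicOpen_le h) (papp (eta P) U s₀) =
          papp (eta P) (X.basicOpen h) (pres P (X.basicOpen_le h) s₀) := (papp_pres (eta P) _ s₀).symm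
      rw [map_sub, res_smul, ← hs'', h5, hs₀, map_smul]
      exact sub_self _)
    refine ⟨h, hxh, l + k, ?_⟩
    change h ^ (l + k) • t ∈ LinearMap.range (papp (eta P) U)
    refine ⟨h ^ l • s₀, ?_⟩
    rw [map_smul, pow_add, mul_smul]
    rw [smul_sub, sub_eq_zero] at hl
    exact hl.symm
  have h1 : (1 : Γ(X, U)) ∈ J := hJ ▸ trivial
  have h2 : (1 : Γ(X, U)) • t ∈ LinearMap.range (papp (eta P) U) := h1
  rwa [one_smul] at h2

theorem LocP.bijective (hP : LocP P) {U : X.Opens} (hU : IsAffineOpen U) :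
    Function.Bijective (papp (eta P) U) := ⟨hP.injective hU, hP.surjective hU⟩

/-- The presheaf of exterior powers of a quasi-coherent module localizes on affine opens. -/
theorem locP_extPre (i : ℕ) {E : X.Modules} (hE : Coh.IsQCoh E) : LocP (extPre i E) := by
  constructor
  · intro U hU g s hs
    let i1 := QCohStalk.resModule E (X.basicOpen_le g)
    let i2 : Algebra Γ(X, U) Γ(X, X.basicOpen g) := (resO X (X.basicOpen_le g)).toAlgebra
    have i3 : IsScalarTower Γ(X, U) Γ(X, X.basicOpen g) Γ(E, X.basicOpen g) :=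
      ⟨fun a b c => by rw [Algebra.smul_def, mul_smul]; rfl⟩
    have i4 : IsLocalization (.powers g) Γ(X, X.basicOpen g) := hU.isLocalization_basicOpen g
    have i5 := QCohStalk.isLocalizedModule_res E hU hE g
    obtain ⟨⟨_, k, rfl⟩, hk⟩ := ExtLoc.exists_smul_eq_zero (B := Γ(X, X.basicOpen g)) (.powers g)
      (QCohStalk.resₗ E (X.basicOpen_le g)) i (show ⋀[Γ(X, U)]^i (Sec E U) from s) hs
    exact ⟨k, hk⟩
  · intro U hU g t
    let i1 := QCohStalk.resModule E (X.basicOpen_le g)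
    let i2 : Algebra Γ(X, U) Γ(X, X.basicOpen g) := (resO X (X.basicOpen_le g)).toAlgebra
    have i3 : IsScalarTower Γ(X, U) Γ(X, X.basicOpen g) Γ(E, X.basicOpen g) :=
      ⟨fun a b c => by rw [Algebra.smul_def, mul_smul]; rfl⟩
    have i4 : IsLocalization (.powers g) Γ(X, X.basicOpen g) := hU.isLocalization_basicOpen g
    have i5 := QCohStalk.isLocalizedModule_res E hU hE g
    obtain ⟨⟨_, k, rfl⟩, s, hs⟩ := ExtLoc.exists_smul_eq_extS (B := Γ(X, X.basicOpen g)) (.powers g)
      (QCohStalk.resₗ E (X.basicOpen_le g)) i (show ⋀[Γ(X, X.basicOpen g)]^i (Sec E (X.basicOpen g)) from t)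
    exact ⟨k, s, hs.symm⟩

/-- The map `Λ^i E(U) → (Λ^i E)(U)` is bijective for affine `U` and `E` quasi-coherent. -/
theorem bijective_eta' {E : X.Modules} (hE : Coh.IsQCoh E) {U : X.Opens} (hU : IsAffineOpen U)
    (i : ℕ) : Function.Bijective (eta' i E U) :=
  ((locP_extPre i hE).bijective hU).comp (toPre i E U).bijective

/-- The sheaf `Λ^i E` is an `i`-th exterior power of the quasi-coherent module `E`. -/
theorem isExtPow_ext {E : X.Modules} (hE : Coh.IsQCoh E) (i : ℕ) :
    ExtPow.IsExtPow i E (ext i E) := by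
  refine ⟨fun U => (LinearEquiv.ofBijective (eta' i E U.1) (bijective_eta' hE U.2 i)).symm, ?_⟩
  intro U V h e
  rw [LinearEquiv.symm_symm, LinearEquiv.symm_symm, LinearEquiv.ofBijective_apply, LinearEquiv.ofBijective_apply]
  have h1 := eta'_eres i E h (exteriorPower.ιMulti _ i e)
  rw [eres_ιMulti] at h1
  exact h1.symm

/-- Existence of exterior powers of quasi-coherent modules. -/
theorem exists_isExtPow (i : ℕ) {E : X.Modules} (hE : Coh.IsQCoh E) :
    ∃ L : X.Modules, ExtPow.IsExtPow i E L := ⟨ext i E, isExtPow_ext hE i⟩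

end Groth.Agent.Dual.H366.ExtQCoh
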